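import Groth.Agent.NonAbH1.K250.RedExt
import Groth.Agent.GrpSch.K269.FinSec
import Groth.Agent.CurvesC.KillIdeal
import Groth.Agent.FlatB.FppfDom
import Mathlib.AlgebraicGeometry.Morphisms.LocalFlatDescent

/-!
# Maps from proper schemes to quasi-affine homogeneous spaces

`exists_lift`: `k` algebraically closed, `ρ : G ⟶ L` a smooth closed subgroup scheme of an affine group of finite
type with `X = L/G` quasi-affine, `Y` proper over `k`: every `k`-morphism `Y ⟶ X` lifts to `L`.
-/

set_option autoImplicit false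
universe u
open CategoryTheory CategoryTheory.Limits MonoidalCategory CartesianMonoidalCategory MonObj GrpObj AlgebraicGeometry
open Groth.Agent.Books.BorelOrb

namespace K250.QAffLift

open Groth.Agent

/-- `Y ⟶ Spec Γ(Y)` is surjective for `Γ(Y)` Artinian. -/
theorem surjective_toSpecΓ {Y : Scheme.{u}} [CompactSpace Y] [IsArtinianRing Γ(Y, ⊤)] :
    Function.Surjective Y.toSpecΓ := by
  have h1 : DenseRange Y.toSpecΓ := (inferInstance : IsDominant Y.toSpecΓ).1
  have h2 : DiscreteTopology (PrimeSpectrum Γ(Y, ⊤)) := inferInstance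
  intro s
  have h3 : IsOpen ({s} : Set (PrimeSpectrum Γ(Y, ⊤))) := isOpen_discrete _
  obtain ⟨y, hy⟩ := h1.exists_mem_open (s := ({s} : Set (PrimeSpectrum Γ(Y, ⊤)))) h3 ⟨s, rfl⟩
  exact ⟨y, hy⟩

variable {k : Type u} [Field k]

/-- The algebra structure on the global functions of a proper scheme is finite. -/
theorem finite_top (Y : Scheme.{u}) [Y.Over (Spec (CommRingCat.of k))] [IsProper (Y ↘ Spec (CommRingCat.of k))] :
    ∃ (_ : Algebra k Γ(Y, ⊤)), Module.Finite k Γ(Y, ⊤) := by
  have h1 : Module.Finite k (Coh.HH Y (Coh.structureModule Y) 0) :=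
    S0002.result k Y (Coh.structureModule Y) (CurvesC.UnitCoh.isCoh_unit Y) 0
  let alg : Algebra k Γ(Y, ⊤) := (CurvesB.HZero.gl k Y).toAlgebra
  refine ⟨alg, ?_⟩
  let e : Coh.HH Y (Coh.structureModule Y) 0 ≃ₗ[k] Γ(Y, ⊤) :=
    { CurvesB.HZero.equivO Y with
      map_smul' := fun t x => by
        rw [RingHom.id_apply, Algebra.smul_def]
        exact CurvesB.HZero.equivO_smul k t x }
  exact Module.Finite.equiv e

/-- A morphism from a proper scheme to a quasi-affine scheme factors through the spectrum of the global functions. -/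
theorem exists_factor (Y : Scheme.{u}) [Y.Over (Spec (CommRingCat.of k))] [IsProper (Y ↘ Spec (CommRingCat.of k))]
    {X : Scheme.{u}} (hX : X.IsQuasiAffine) (ψ : Y ⟶ X) :
    ∃ ψ' : Spec (CommRingCat.of Γ(Y, ⊤)) ⟶ X, Y.toSpecΓ ≫ ψ' = ψ := by
  have hart := CurvesC.KillIdeal.isArtinianRing_global k Y
  have hcomp : CompactSpace Y := by
    have := QuasiCompact.compactSpace_of_compactSpace (Y ↘ Spec (CommRingCat.of k))
    exact this
  have hnat : ψ ≫ X.toSpecΓ = Y.toSpecΓ ≫ Spec.map ψ.appTop := Scheme.toSpecΓ_naturality ψ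
  have hrange : Set.range (Spec.map ψ.appTop) ⊆ Set.range X.toSpecΓ := by
    rintro _ ⟨s, rfl⟩
    obtain ⟨y, rfl⟩ := surjective_toSpecΓ s
    refine ⟨ψ y, ?_⟩
    rw [← Scheme.Hom.comp_apply, ← Scheme.Hom.comp_apply, hnat]
  refine ⟨IsOpenImmersion.lift X.toSpecΓ (Spec.map ψ.appTop) hrange, ?_⟩
  rw [← cancel_mono X.toSpecΓ, Category.assoc, IsOpenImmersion.lift_fac, hnat]

variable {G L X : Over (Spec (CommRingCat.of k))} [GrpObj G] [GrpObj L] (ρ : G ⟶ L) [IsMonHom ρ]
  (aX : AlgGrp.Action L X) (o : 𝟙_ (Over (Spec (CommRingCat.of k))) ⟶ X)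

theorem isPullback_left (hX : AGF.IsQuotient ρ X aX o) :
    IsPullback (fst L G).left ((L ◁ ρ) ≫ μ[L]).left (aX.orbitMap o).left (aX.orbitMap o).left :=
  hX.2.2.2.map (Over.forget _)

set_option backward.isDefEq.respectTransparency.types false in
theorem zariski_smooth : IsZariskiLocalAtTarget (@Smooth : MorphismProperty Scheme.{u}) := inferInstance

theorem of_fpqc (P : MorphismProperty Scheme.{u})
    [MorphismProperty.DescendsAlong P (@Surjective ⊓ @Flat ⊓ @QuasiCompact)]
    [IsZariskiLocalAtTarget P] :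
    P.DescendsAlong (@Surjective ⊓ @Flat ⊓ @LocallyOfFinitePresentation) := inferInstance

theorem desc_smooth : MorphismProperty.DescendsAlong (C := Scheme.{u}) @Smooth
    (@Surjective ⊓ @Flat ⊓ @LocallyOfFinitePresentation) := by
  have := zariski_smooth.{u}
  exact of_fpqc _

/-- The quotient map by a smooth subgroup is smooth. -/
theorem smooth_orbitMap [Smooth G.hom] [LocallyOfFiniteType L.hom] (hX : AGF.IsQuotient ρ X aX o) :
    Smooth (aX.orbitMap o).left := by
  have h0 : LocallyOfFiniteType X.hom := hX.1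
  have h1 : Flat (aX.orbitMap o).left := hX.2.1
  have h2 : Surjective (aX.orbitMap o).left := hX.2.2.1
  have h3 : LocallyOfFiniteType (aX.orbitMap o).left := by
    have : LocallyOfFiniteType ((aX.orbitMap o).left ≫ X.hom) := by rw [Over.w]; infer_instance
    exact locallyOfFiniteType_of_comp _ X.hom
  have h4 : IsLocallyNoetherian X.left := LocallyOfFiniteType.isLocallyNoetherian X.hom
  have h5 : LocallyOfFinitePresentation (aX.orbitMap o).left :=
    FlatB.FppfDom.locallyOfFinitePresentation_of_isLocallyNoetherian _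
  have h6 : Smooth (fst L G).left := by
    change Smooth (pullback.fst L.hom G.hom)
    infer_instance
  have h7 := desc_smooth.{u}
  exact MorphismProperty.of_isPullback_of_descendsAlong (P := @Smooth)
    (Q := @Surjective ⊓ @Flat ⊓ @LocallyOfFinitePresentation) (isPullback_left ρ aX o hX)
    ⟨⟨h2, h1⟩, h5⟩ h6

/-- Lifting of maps from proper schemes. -/
theorem exists_lift [IsAlgClosed k] [Smooth G.hom] [LocallyOfFiniteType L.hom] [IsAffine L.left]
    (hX : AGF.IsQuotient ρ X aX o) (hq : X.left.IsQuasiAffine)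
    (Y : Scheme.{u}) [Y.Over (Spec (CommRingCat.of k))] [IsProper (Y ↘ Spec (CommRingCat.of k))]
    (ψ : Over.mk (Y ↘ Spec (CommRingCat.of k)) ⟶ X) :
    ∃ g : Over.mk (Y ↘ Spec (CommRingCat.of k)) ⟶ L, g ≫ aX.orbitMap o = ψ := by
  obtain ⟨ψ', hψ'⟩ := exists_factor (k := k) Y hq ψ.left
  obtain ⟨_, hfin⟩ := finite_top (k := k) Y
  have hsm := smooth_orbitMap ρ aX o hX
  have hsu : Surjective (aX.orbitMap o).left := hX.2.2.1
  have hsep : X.left.IsSeparated := inferInstance
  have haff : IsAffineHom (aX.orbitMap o).left := by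
    have h1 : IsAffineHom ((aX.orbitMap o).left ≫ terminal.from X.left) := inferInstance
    exact IsAffineHom.of_comp _ (terminal.from X.left)
  obtain ⟨s, hs⟩ := K269.FinSec.exists_section_Spec k (pullback.snd (aX.orbitMap o).left ψ')
  refine ⟨Over.homMk (Y.toSpecΓ ≫ s ≫ pullback.fst (aX.orbitMap o).left ψ') ?_, ?_⟩
  · have h1 : L.hom = (aX.orbitMap o).left ≫ X.hom := (Over.w _).symm
    rw [h1]
    change (Y.toSpecΓ ≫ s ≫ pullback.fst (aX.orbitMap o).left ψ') ≫ _ = _
    rw [Category.assoc, Category.assoc, pullback.condition_assoc, reassoc_of% hs, reassoc_of% hψ']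
    exact Over.w ψ
  · ext1
    change (Y.toSpecΓ ≫ s ≫ pullback.fst (aX.orbitMap o).left ψ') ≫ (aX.orbitMap o).left = ψ.left
    rw [Category.assoc, Category.assoc, pullback.condition, reassoc_of% hs, hψ']

end K250.QAffLift
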