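import Groth.Agent.NonAbH1.K551.Tors
import Groth.Agent.NonAbH1.K554.BcPt
import Groth.Agent.Sga3.H784.FlatDesc
import Groth.Agent.S12540

/-!
# Torsors with trivial extension of the structure group and maps to the homogeneous space

`hasSection_of_lift`: for a closed subgroup `ρ : G ⟶ L` with quotient `X = L/G` over `S`, `y : Y ⟶ S`, a `G`-torsor
`F` over `Y` whose extension `F'` to `L` has a section is trivial as soon as every morphism `Y ⟶ X` over `S` lifts to
`L`.
-/

set_option autoImplicit false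
universe u
open CategoryTheory CategoryTheory.Limits MonoidalCategory CartesianMonoidalCategory MonObj GrpObj AlgebraicGeometry
open Groth.Agent.Books.BorelOrb

namespace K250.RedExt

open K551.Tors K554.BcPt

variable {S : Scheme.{u}} {G L : Over S} [GrpObj G] [GrpObj L] (ρ : G ⟶ L) [IsMonHom ρ]
  {X : Over S} (aX : AlgGrp.Action L X) (o : 𝟙_ (Over S) ⟶ X)
  {Y : Scheme.{u}} (y : Y ⟶ S) {F F' : Over Y}
  (a : AlgGrp.Action (Red.bc y G) F) (a' : AlgGrp.Action (Red.bc y L) F')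

/-- Equivariance on points. -/
theorem sm_comp_of {f : F ⟶ F'}
    (hf : a.act ≫ f = lift (fst _ F ≫ (Over.pullback y).map ρ) (snd _ F ≫ f) ≫ a'.act) {T : Over Y}
    (g : T ⟶ Red.bc y G) (x : T ⟶ F) :
    sm a g x ≫ f = sm a' (g ≫ (Over.pullback y).map ρ) (x ≫ f) := by
  unfold sm
  rw [Category.assoc, hf, ← Category.assoc]
  congr 1
  apply CartesianMonoidalCategory.hom_ext <;> simp

/-- The projection of a scheme over `Y` to `Y`, over `S`. -/
def pr (T : Over Y) : (Over.map y).obj T ⟶ Over.mk y := Over.homMk T.hom rfl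

theorem map_pr {T T' : Over Y} (t : T ⟶ T') : (Over.map y).map t ≫ pr y T' = pr y T := by
  ext1
  exact Over.w t

section

variable {a a'} (ha : NonAbH1.IsTorsorFor Scheme.fppfPrecoverage a) (ha' : NonAbH1.IsPseudoTorsorSch a')
  (f : F ⟶ F') (hf : a.act ≫ f = lift (fst _ F ≫ (Over.pullback y).map ρ) (snd _ F ≫ f) ≫ a'.act)
  (σ : 𝟙_ (Over Y) ⟶ F')

/-- The coordinate `F ⟶ L` with respect to the section `σ`. -/
noncomputable def crd : (Over.map y).obj F ⟶ L := un y (dif ha' f (toUnit F ≫ σ))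

include hf in
theorem crd_sm {T : Over Y} (g : T ⟶ Red.bc y G) (x : T ⟶ F) :
    (Over.map y).map (sm a g x) ≫ crd y ha' f σ = (un y g ≫ ρ) * ((Over.map y).map x ≫ crd y ha' f σ) := by
  have h0 : ∀ {T : Over Y} (x : T ⟶ F), sm a' (x ≫ dif ha' f (toUnit F ≫ σ)) (toUnit T ≫ σ) = x ≫ f := by
    intro T x
    conv_rhs => rw [← sm_dif ha' f (toUnit F ≫ σ), comp_sm]
    congr 1
    rw [← Category.assoc, comp_toUnit]
  have h1 : sm a g x ≫ dif ha' f (toUnit F ≫ σ) =
      (g ≫ (Over.pullback y).map ρ) * (x ≫ dif ha' f (toUnit F ≫ σ)) := by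
    apply sm_injective ha' (toUnit T ≫ σ)
    rw [h0, mul_sm, h0, sm_comp_of ρ y a a' hf]
  unfold crd
  rw [← un_comp, h1, un_mul, un_comp_map, un_comp]

end

/-- The torsor is trivial if all maps to the homogeneous space lift. -/
theorem hasSection_of_lift [Mono ρ] (hX : AGF.IsQuotient ρ X aX o) [Flat G.hom] [QuasiCompact G.hom]
    {a : AlgGrp.Action (Red.bc y G) F} {a' : AlgGrp.Action (Red.bc y L) F'}
    (ha : NonAbH1.IsTorsorFor Scheme.fppfPrecoverage a) (ha' : NonAbH1.IsPseudoTorsorSch a')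
    (f : F ⟶ F') (hf : a.act ≫ f = lift (fst _ F ≫ (Over.pullback y).map ρ) (snd _ F ≫ f) ≫ a'.act)
    (σ : 𝟙_ (Over Y) ⟶ F') (hlift : ∀ ψ : Over.mk y ⟶ X, ∃ g : Over.mk y ⟶ L, g ≫ aX.orbitMap o = ψ) :
    NonAbH1.HasSectionOver F (𝟙 Y) := by
  have hF1 : Flat (Red.bc y G).hom := by
    change Flat (pullback.snd G.hom y); infer_instance
  have hF2 : QuasiCompact (Red.bc y G).hom := by
    change QuasiCompact (pullback.snd G.hom y); infer_instance
  have hp1 : Surjective (pr y F).left := surjective_of_torsor ha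
  have hp2 : Flat (pr y F).left := flat_of_torsor ha
  have hp3 : QuasiCompact (pr y F).left := quasiCompact_of_torsor ha
  let u := crd y ha' f σ
  have hu : ∀ {T : Over Y} (g : T ⟶ Red.bc y G) (x : T ⟶ F),
      (Over.map y).map (sm a g x) ≫ u = (un y g ≫ ρ) * ((Over.map y).map x ≫ u) :=
    fun g x => crd_sm ρ y ha' f hf σ g x
  obtain ⟨ψ, hψ⟩ := Groth.Agent.Sga3.H784.FlatDesc.exists_desc (pr y F) (u⁻¹ ≫ aX.orbitMap o) (by
    intro P t t' htt
    let P0 : Over Y := Over.mk (t.left ≫ F.hom)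
    have h2 : t'.left ≫ F.hom = t.left ≫ F.hom := (congrArg (fun q => q.left) htt).symm
    let x : P0 ⟶ F := Over.homMk t.left rfl
    let x' : P0 ⟶ F := Over.homMk t'.left h2
    let e : P ⟶ (Over.map y).obj P0 := Over.homMk (𝟙 P.left) (by
      rw [Category.id_comp]
      change (t.left ≫ F.hom) ≫ y = P.hom
      rw [Category.assoc]
      exact Over.w t)
    have e1 : e ≫ (Over.map y).map x = t := by
      ext1
      exact Category.id_comp _
    have e2 : e ≫ (Over.map y).map x' = t' := by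
      ext1
      exact Category.id_comp _
    have h3 := hu (dif ha.1 x' x) x
    rw [sm_dif] at h3
    have h4 : (Over.map y).map x ≫ u⁻¹ ≫ aX.orbitMap o = (Over.map y).map x' ≫ u⁻¹ ≫ aX.orbitMap o := by
      rw [← Category.assoc, ← Category.assoc, Groth.Agent.S12540.rel ρ aX o hX]
      refine ⟨(un y (dif ha.1 x' x))⁻¹, ?_⟩
      rw [comp_inv, comp_inv, inv_comp, h3, _root_.mul_inv_rev]
    rw [← e1, ← e2, Category.assoc, Category.assoc, h4])
  obtain ⟨g0, hg0⟩ := hlift ψ
  obtain ⟨c, hc⟩ := (Groth.Agent.S12540.rel ρ aX o hX (pr y F ≫ g0) u⁻¹).1 (by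
    rw [Category.assoc, hg0, hψ])
  have hc' : c⁻¹ ≫ ρ = u * (pr y F ≫ g0) := by
    rw [inv_comp, ← inv_inv u, hc]
    group
  have hC : ∀ {T : Over Y} (g : T ⟶ Red.bc y G) (x : T ⟶ F), sm a g x ≫ mk y c⁻¹ = g * (x ≫ mk y c⁻¹) := by
    intro T g x
    apply un_injective y
    rw [un_comp, un_mul, un_comp, un_mk, ← cancel_mono ρ, Category.assoc, hc', comp_mul, hu, mul_comp,
      Category.assoc, hc', comp_mul, _root_.mul_assoc]
    congr 2
    rw [← Category.assoc, ← Category.assoc, map_pr, map_pr]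
  have hiso : IsIso (mk y c⁻¹ : F ⟶ Red.bc y G) := by
    refine isIso_of_equivariant ha (NonAbH1.isPseudoTorsorSch_trivialAction _) (mk y c⁻¹) ?_
    have h5 := hC (fst (Red.bc y G) F) (snd (Red.bc y G) F)
    unfold sm at h5
    rw [lift_fst_snd, Category.id_comp] at h5
    rw [h5]
    change _ = (Red.bc y G ◁ mk y c⁻¹) ≫ μ[Red.bc y G]
    rw [Hom.mul_def]
    congr 1
  exact ⟨(η[Red.bc y G] ≫ inv (mk y c⁻¹)).left, Over.w (η[Red.bc y G] ≫ inv (mk y c⁻¹))⟩

end K250.RedExt
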