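import Groth.Agent.NonAbH1.K250.TorusObs
import Groth.Agent.AGF.K495.QAff
import Groth.Agent.AGF.K495.Bridge2
import Groth.Agent.AGF.K492.RedDict

/-!
# Homogeneous spaces by reductive subgroups are quasi-affine

`isQuasiAffine`: `k` algebraically closed, `G` reductive, `ρ : G ⟶ L` a closed immersion of groups, `L` affine and
smooth, `X = L/G`; then `X` is quasi-affine.
-/

set_option autoImplicit false
universe u
open CategoryTheory MonoidalCategory CartesianMonoidalCategory MonObj GrpObj AlgebraicGeometry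

namespace K250.RedObs

open Groth.Agent.Sga3B.RG K495.ObsPt K495.ObsExt K495.Bridge

variable {k : Type u} [Field k] [IsAlgClosed k]

/-- The image of a torus is a torus. -/
theorem isTorusSub_map {A C : Type u} [CommRing A] [HopfAlgebra k A] [CommRing C] [HopfAlgebra k C]
    (φ : A →ₐc[k] C) (hφ : Function.Surjective φ) {T : Subgroup (Pt k C)} (hT : IsTorusSub T) :
    IsTorusSub (T.map (Pt.map φ)) := by
  obtain ⟨n, π, hπ, rfl⟩ := hT
  refine ⟨n, π.comp φ, hπ.comp hφ, ?_⟩
  ext x
  constructor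
  · rintro ⟨_, ⟨y, rfl⟩, rfl⟩
    exact ⟨y, rfl⟩
  · rintro ⟨y, rfl⟩
    exact ⟨Pt.map π y, ⟨y, rfl⟩, rfl⟩

/-- A reductive closed subgroup of points is observable. -/
theorem isObs_of_isRedPt {A C : Type u} [CommRing A] [HopfAlgebra k A] [CommRing C] [HopfAlgebra k C]
    [Algebra.FiniteType k A] [_root_.IsReduced A] [Algebra.FiniteType k C] [IsDomain C]
    (φ : A →ₐc[k] C) (hφ : Function.Surjective φ) (h : IsRedPt k C) : IsObs (Pt.map (K := k) φ).range := by
  obtain ⟨N, hN⟩ := K494.RadPt.exists_isRad k C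
  have hT := K493.PerfImg.isTorusSub_of_solvable_normal h hN.normal hN.ccs
  exact isObs_of_invExt (Pt.isCl_range_map hφ)
    (K495.Rad.invExt_of_rad hN.normal hN.le (TorusObs.invExt_torus (isTorusSub_map φ hφ hT)))

variable {G L X : Over (Spec (CommRingCat.of k))} [GrpObj G] [GrpObj L]

theorem isQuasiAffine (hG : Red.IsReductiveOver k G) (ρ : G ⟶ L) [IsMonHom ρ] [IsClosedImmersion ρ.left]
    [IsAffine L.left] [Smooth L.hom] (a : AlgGrp.Action L X)
    (o : 𝟙_ (Over (Spec (CommRingCat.of k))) ⟶ X) (hX : AGF.IsQuotient ρ X a o) : X.left.IsQuasiAffine := by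
  have hsm : Smooth G.hom := hG.2.1
  have haff : IsAffine G.left := hG.1
  obtain ⟨A, _, _, e, he, hft, hred⟩ := exists_data L
  obtain ⟨C, _, _, e', he', φ, hft', hred', hφs, hφ⟩ := exists_hom_data e ρ
  refine K495.QAff.isQuasiAffine_of_isObs ρ a o e hX ?_
  rw [psub_eq_range e ρ e' φ hφ]
  have hdom := (K492.RedDict.isReductiveOver_iff' e').1 hG
  have hdom1 := hdom.1
  exact isObs_of_isRedPt φ hφs hdom.2

end K250.RedObs
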