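import Groth.Agent.AGF.K495.ObsExt
import Groth.Agent.AGF.K495.Rad
import Groth.Agent.AGF.K493.PerfImg
import Groth.Agent.AGF.K494.RadPt

/-!
# Reductive groups of points are observable

* `invExt_torus`: a torus is observable (every extendible character has an extendible inverse);
* `isObs_of_isRedPt`: a closed embedding of a reductive group is observable.
-/

set_option autoImplicit false

universe u w

open WithConv TensorProduct Coalgebra

namespace K250.TorusObs

open Groth.Agent.Sga3B.RG K495.ObsPt K495.ObsExt

variable {K : Type u} [Field K] {A : Type u} [CommRing A] [HopfAlgebra K A]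

section coeff

variable {M : Type} [CommGroup M] (π : A →ₐc[K] MonoidAlgebra K M)

/-- The function `y ↦ (x * π y)(a)` on the diagonalizable group. -/
noncomputable def U (x : Pt K A) (a : A) : MonoidAlgebra K M :=
  TensorProduct.lid K _ (TensorProduct.map x.ofConv.toLinearMap (π : A →ₐ[K] MonoidAlgebra K M).toLinearMap
    (comul (R := K) a))

theorem apply_U (x : Pt K A) (a : A) (y : Pt K (MonoidAlgebra K M)) :
    y (U π x a) = (x * Pt.map π y) a := by
  rw [Pt.mul_apply]
  unfold U
  generalize comul (R := K) a = t
  induction t with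
  | zero => simp only [map_zero]
  | tmul b c =>
    rw [TensorProduct.map_tmul, TensorProduct.lid_tmul, Algebra.TensorProduct.lift_tmul]
    exact map_smul y.ofConv _ _
  | add b c hb hc =>
    simp only [map_add]
    exact congrArg₂ (· + ·) hb hc

/-- The `m`-th coefficient. -/
noncomputable def cf (m : M) : MonoidAlgebra K M →ₗ[K] K :=
  (Finsupp.lapply m : (M →₀ K) →ₗ[K] K).comp (MonoidAlgebra.coeffLinearEquiv K).toLinearMap

theorem cf_apply (m : M) (b : MonoidAlgebra K M) : cf m b = b.coeff m := rfl

/-- The `m`-component of `a` under right translation. -/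
noncomputable def P (m : M) (a : A) : A :=
  TensorProduct.rid K A (TensorProduct.map LinearMap.id
    ((cf m).comp (π : A →ₐ[K] MonoidAlgebra K M).toLinearMap) (comul (R := K) a))

theorem apply_P (x : Pt K A) (m : M) (a : A) : x (P π m a) = cf m (U π x a) := by
  unfold U P
  generalize comul (R := K) a = t
  induction t with
  | zero => simp only [map_zero]
  | tmul b c =>
    rw [TensorProduct.map_tmul, TensorProduct.rid_tmul, TensorProduct.map_tmul, TensorProduct.lid_tmul, map_smul]
    refine Eq.trans ?_ (map_smul (cf m) (x.ofConv b) _).symm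
    simp only [LinearMap.comp_apply, smul_eq_mul, LinearMap.id_apply]
    exact mul_comm _ _
  | add b c hb hc =>
    simp only [map_add]
    exact congrArg₂ (· + ·) hb hc

omit [CommRing A] [HopfAlgebra K A] in
theorem comul_single' (m : M) (r : K) : comul (R := K) (MonoidAlgebra.single m r) =
    r • (MonoidAlgebra.single m (1 : K) ⊗ₜ[K] MonoidAlgebra.single m (1 : K)) := by
  have h : (MonoidAlgebra.single m r : MonoidAlgebra K M) = r • MonoidAlgebra.single m 1 := by
    rw [MonoidAlgebra.smul_single, smul_eq_mul, mul_one]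
  rw [h, map_smul]
  congr 1
  simp

theorem cf_rTr (y : Pt K (MonoidAlgebra K M)) (m : M) (b : MonoidAlgebra K M) :
    cf m (rTr y b) = y (MonoidAlgebra.single m 1) * cf m b := by
  classical
  induction b using MonoidAlgebra.induction_linear with
  | zero => rw [map_zero, map_zero, mul_zero]
  | add b c hb hc => rw [map_add, map_add, map_add, hb, hc, mul_add]
  | single m' r =>
    have h1 : rTr y (MonoidAlgebra.single m' r) = (r * y (MonoidAlgebra.single m' 1)) • MonoidAlgebra.single m' 1 := by
      have h2 : comul (R := K) (MonoidAlgebra.single m' r) =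
          r • (MonoidAlgebra.single m' (1 : K) ⊗ₜ[K] MonoidAlgebra.single m' (1 : K)) := comul_single' m' r
      change (Algebra.TensorProduct.rid K K _) (Algebra.TensorProduct.map (AlgHom.id K _) y.ofConv
        (comul (R := K) (MonoidAlgebra.single m' r))) = _
      rw [h2, map_smul, map_smul, Algebra.TensorProduct.map_tmul, Algebra.TensorProduct.rid_tmul, mul_smul]
      rfl
    rw [h1, map_smul, cf_apply, cf_apply, MonoidAlgebra.coeff_single, MonoidAlgebra.coeff_single]
    by_cases h : m' = m
    · subst h
      simp [mul_comm]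
    · simp [Finsupp.single_apply, h]

theorem pt_mul_comm (y y' : Pt K (MonoidAlgebra K M)) : y * y' = y' * y := by
  refine Pt.ext' fun b => ?_
  induction b using MonoidAlgebra.induction_linear with
  | zero => exact (map_zero (y * y').ofConv).trans (map_zero (y' * y).ofConv).symm
  | add b c hb hc =>
    refine (map_add (y * y').ofConv _ _).trans (Eq.trans ?_ (map_add (y' * y).ofConv _ _).symm)
    exact congrArg₂ (· + ·) hb hc
  | single m' r =>
    have h2 : comul (R := K) (MonoidAlgebra.single m' r) =
        r • (MonoidAlgebra.single m' (1 : K) ⊗ₜ[K] MonoidAlgebra.single m' (1 : K)) := comul_single' m' r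
    rw [Pt.mul_apply, Pt.mul_apply, h2, map_smul, map_smul, Algebra.TensorProduct.lift_tmul,
      Algebra.TensorProduct.lift_tmul, mul_comm (y.ofConv _)]

end coeff

/-- Tori are observable. -/
theorem invExt_torus [IsAlgClosed K] {T : Subgroup (Pt K A)} (hT : IsTorusSub T) : InvExt T := by
  obtain ⟨n, π, hπ, rfl⟩ := hT
  intro χ F hF h1
  have hU1 : ∀ a : A, U π 1 a = π a := fun a => by
    refine eq_of_forall_pt (K := K) fun y => ?_
    rw [apply_U, one_mul]
    rfl
  -- translation of `U`
  have hU : ∀ (x : Pt K A) (y : Pt K (MonoidAlgebra K (Multiplicative (Fin n → ℤ)))) (a : A),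
      U π (x * Pt.map π y) a = rTr y (U π x a) := fun x y a => by
    refine eq_of_forall_pt (K := K) fun y' => ?_
    rw [apply_U, rTr_apply_pt, apply_U, mul_assoc, ← map_mul, pt_mul_comm y y']
  have hb1 : ∀ y : Pt K (MonoidAlgebra K (Multiplicative (Fin n → ℤ))), y (π F) = χ (Pt.map π y) * (1 : Pt K A) F := by
    intro y
    have := hF 1 (Pt.map π y) ⟨y, rfl⟩
    rwa [one_mul] at this
  have hb : π F ≠ 0 := by
    intro h0
    apply h1
    have h2 : (1 : Pt K A) F = (Pt.map π 1) F := by rw [map_one]
    rw [h2, Pt.map_apply, h0]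
    exact map_zero (1 : Pt K (MonoidAlgebra K (Multiplicative (Fin n → ℤ)))).ofConv
  obtain ⟨m, hm⟩ : ∃ m, cf m (π F) ≠ 0 := by
    by_contra hcon
    push Not at hcon
    apply hb
    ext m
    exact hcon m
  have hχ : ∀ y : Pt K (MonoidAlgebra K (Multiplicative (Fin n → ℤ))),
      χ (Pt.map π y) = y (MonoidAlgebra.single m 1) := by
    intro y
    have h2 : rTr y (π F) = χ (Pt.map π y) • π F := by
      refine eq_of_forall_pt (K := K) fun y' => ?_
      rw [rTr_apply_pt]
      have h3 : y' (χ (Pt.map π y) • π F) = χ (Pt.map π y) * y' (π F) := by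
        refine (map_smul y'.ofConv _ _).trans ?_
        rfl
      have h4 := hF (Pt.map π y') (Pt.map π y) ⟨y, rfl⟩
      rw [← map_mul] at h4
      rw [h3]
      exact h4
    have h3 := cf_rTr y m (π F)
    rw [h2, map_smul, smul_eq_mul] at h3
    exact mul_right_cancel₀ hm h3
  obtain ⟨a, ha⟩ := hπ (MonoidAlgebra.single m⁻¹ 1)
  refine ⟨P π m⁻¹ a, ?_, ?_⟩
  · rintro x h ⟨y, rfl⟩
    rw [apply_P, apply_P, hU, cf_rTr, hχ, ← mul_assoc]
    have h2 : y (MonoidAlgebra.single m 1) * y (MonoidAlgebra.single m⁻¹ 1) = 1 := by
      refine (map_mul y.ofConv _ _).symm.trans ?_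
      rw [MonoidAlgebra.single_mul_single, mul_inv_cancel, mul_one]
      exact map_one y.ofConv
    rw [h2, one_mul]
  · rw [apply_P, hU1, ha, cf_apply, MonoidAlgebra.coeff_single, Finsupp.single_eq_same]
    exact one_ne_zero

end K250.TorusObs
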